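import Cfsg.Agent.H595.Five.ENineteen
import Cfsg.Agent.H302.St.StepAtwo

/-!
# Case 1920 of S3568, final form
-/

set_option autoImplicit false
open Pointwise
namespace Cfsg.Agent.H595.Five
open Cfsg.Agent.H399 Cfsg.Agent.H209.Five
variable {G : Type*} [Group G]

theorem e1920 [Finite G] {Q₁ Q₂ : Subgroup G} (hq : QPair Q₁ Q₂ 16 4) (g : G) (hg₁ : cj g Q₁ = Q₂) (hg₂ : cj g Q₂ = Q₁)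
    (hN : Nat.card ↥(Nm Q₁) = 1920) (hD : Nat.card ↥(Nm Q₁ ⊓ Nm Q₂) = 384)
    (hna : ∃ a ∈ Nm Q₁ ⊓ Nm Q₂, ∃ b ∈ Nm Q₁ ⊓ Nm Q₂, a * b * a⁻¹ * b⁻¹ ∉ Q₁ ⊔ Q₂)
    (htr : ∀ x ∈ Q₁, ∀ y ∈ Q₁, x ≠ 1 → y ≠ 1 → ∃ a ∈ Nm Q₁, a * x * a⁻¹ = y) :
    ∃ H : Subgroup G, H.index = 2 :=
  e1920_of (fun h₁ h₂ h₃ hsu hv P hP hD => H302.St.stepA1920 h₁ h₂ h₃ hsu hv P hP hD) hq g hg₁ hg₂ hN hD hna htr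

end Cfsg.Agent.H595.Five
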