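import Cfsg.Agent.H595.Five.NineQuot
import Cfsg.Agent.S3225

/-!
# Case 960 of S3568, type (i)
-/

set_option autoImplicit false
open Pointwise
namespace Cfsg.Agent.H595.Five
open Cfsg.Agent.H399 Cfsg.Agent.H209.Five
variable {G : Type*} [Group G] {Q₁ Q₂ : Subgroup G} {τ u : G}

theorem orderOf_tau [Finite G] (h : Six Q₁ Q₂ τ) : orderOf τ = 3 := by
  have : Fact (Nat.Prime 3) := ⟨Nat.prime_three⟩
  apply orderOf_eq_prime h.three
  rintro rfl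
  refine X_not_le h.pair 1 fun x hx => Or.inl ?_
  exact h.fpf x (Subgroup.mem_sup_left hx.1) (by rw [one_mul, mul_one])

theorem exists_X [Finite G] (h : QPair Q₁ Q₂ 16 4) : ∃ x ∈ Q₁ ⊓ Q₂, x ≠ 1 := by
  by_contra hcon
  push Not at hcon
  exact X_not_le h 1 fun x hx => Or.inl (hcon x hx)

theorem D_CC [Finite G] (h : Six Q₁ Q₂ τ) (hD : Nm Q₁ ⊓ Nm Q₂ = Q₁ ⊔ Q₂ ⊔ Subgroup.zpowers τ) :
    Nm Q₁ ⊓ Nm Q₂ ⊓ CC (Q₁ ⊓ Q₂) ≤ Q₁ ⊔ Q₂ := by
  rintro d ⟨hd, hdX⟩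
  have hτT : Subgroup.zpowers τ ≤ Nm (Q₁ ⊔ Q₂) := Subgroup.zpowers_le.2 (nm_T_of_nm h.n₁ h.n₂)
  have hd' : d ∈ Subgroup.zpowers τ ⊔ (Q₁ ⊔ Q₂) := by
    rw [sup_comm, ← hD]
    exact hd
  rw [mul_mem_sup_iff hτT] at hd'
  obtain ⟨a, ha, t, ht, rfl⟩ := hd'
  have htX : t ∈ CC (Q₁ ⊓ Q₂) := mem_CC.2 fun k hk => (h.pair.comm_inf hk ht).symm
  have haX : a ∈ CC (Q₁ ⊓ Q₂) := (Subgroup.mul_mem_cancel_right _ htX).1 hdX
  obtain ⟨x, hx, hx1⟩ := exists_X h.pair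
  have ha1 : a = 1 := by
    rcases mem_zpowers_three (orderOf_tau h) ha with h1 | h1 | h1
    · exact h1
    · exfalso
      apply hx1
      apply h.fpf x (Subgroup.mem_sup_left hx.1)
      rw [← h1]
      exact mem_CC.1 haX x hx
    · exfalso
      apply hx1
      apply h.fpf x (Subgroup.mem_sup_left hx.1)
      have h2 : τ ∈ CC (Q₁ ⊓ Q₂) := by
        have := inv_mem haX
        rwa [h1, inv_inv] at this
      exact mem_CC.1 h2 x hx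
  rw [ha1, one_mul]
  exact ht

theorem NT_CC [Finite G] (h : TypeOne Q₁ Q₂ τ u) (hD : Nm Q₁ ⊓ Nm Q₂ = Q₁ ⊔ Q₂ ⊔ Subgroup.zpowers τ) :
    Nm (Q₁ ⊔ Q₂) ⊓ CC (Q₁ ⊓ Q₂) ≤ Q₁ ⊔ Q₂ ⊔ Subgroup.zpowers u := by
  rintro x ⟨hx, hxX⟩
  have huX : u ∈ CC (Q₁ ⊓ Q₂) := mem_CC.2 fun k hk => h.X k hk
  rcases h.six.pair.perm (by norm_num) hx with ⟨h1, h2⟩ | ⟨h1, h2⟩
  · exact Subgroup.mem_sup_left (D_CC h.six hD ⟨⟨mem_Nm.2 h1, mem_Nm.2 h2⟩, hxX⟩)
  · have h3 : u * x ∈ Q₁ ⊔ Q₂ := by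
      apply D_CC h.six hD
      refine ⟨⟨mem_Nm.2 ?_, mem_Nm.2 ?_⟩, mul_mem huX hxX⟩
      · rw [cj_mul, h1, h.swap']
      · rw [cj_mul, h2, h.swap]
    have h4 : x = u⁻¹ * (u * x) := by group
    rw [h4]
    exact mul_mem (Subgroup.mem_sup_right (inv_mem (Subgroup.mem_zpowers u))) (Subgroup.mem_sup_left h3)

/-- `N(X) = ⟨τ⟩ C(X)` -/
theorem NX [Finite G] (h : TypeOne Q₁ Q₂ τ u) (P : Sylow 2 G) (hP : (P : Subgroup G) = Q₁ ⊔ Q₂ ⊔ Subgroup.zpowers u)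
    {y : G} (hy : y ∈ Nm (Q₁ ⊓ Q₂)) : ∃ a ∈ Subgroup.zpowers τ, a * y ∈ CC (Q₁ ⊓ Q₂) := by
  obtain ⟨b, hb, hb1⟩ := exists_X h.six.pair
  have h1 : y * b * y⁻¹ ∈ Q₁ ⊓ Q₂ := le_Nm.1 le_rfl y hy b hb
  have h2 : y * b * y⁻¹ ≠ 1 := by
    intro h3
    apply hb1
    have := congrArg (fun t => y⁻¹ * t * y) h3
    simpa [mul_assoc] using this
  obtain ⟨a, ha, hab⟩ : ∃ a ∈ Subgroup.zpowers τ, a * (y * b * y⁻¹) * a⁻¹ = b := by
    rcases h.six.transX h1 h2 hb hb1 with h3 | h3 | h3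
    · exact ⟨1, one_mem _, by rw [← h3]; group⟩
    · exact ⟨τ, Subgroup.mem_zpowers τ, h3.symm⟩
    · exact ⟨τ * τ, mul_mem (Subgroup.mem_zpowers τ) (Subgroup.mem_zpowers τ), h3.symm⟩
  refine ⟨a, ha, ?_⟩
  have haX : a ∈ Nm (Q₁ ⊓ Q₂) := Subgroup.zpowers_le.2 h.six.nX ha
  have hwX : a * y ∈ Nm (Q₁ ⊓ Q₂) := mul_mem haX hy
  have hwb : (a * y) * b * (a * y)⁻¹ = b := by
    calc (a * y) * b * (a * y)⁻¹ = a * (y * b * y⁻¹) * a⁻¹ := by group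
      _ = b := hab
  generalize a * y = w at hwX hwb
  refine mem_of_sq_mem P (by rw [hP]; exact P_le_CC h) ?_ ?_
  · rw [mem_Nm, cj_CC, mem_Nm.1 hwX]
  · obtain ⟨c, hc, hc1, hcb⟩ : ∃ c ∈ Q₁ ⊓ Q₂, c ≠ 1 ∧ c ≠ b := by
      by_contra hcon
      push Not at hcon
      refine X_not_le h.six.pair b fun x hx => ?_
      by_cases h5 : x = 1
      · exact Or.inl h5
      · exact Or.inr (hcon x hx h5)
    have hfour := BT.four h.six.pair.inf (fun x hx => h.six.pair.ea₁.sq x hx.1) hb hc hb1 hc1 (fun e => hcb e.symm)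
    have hbb : b * b = 1 := h.six.pair.ea₁.sq b hb.1
    have hwc : (w * w) * c * (w * w)⁻¹ = c := by
      have h5 : w * c * w⁻¹ ∈ Q₁ ⊓ Q₂ := le_Nm.1 le_rfl w hwX c hc
      have h6 : (w * w) * c * (w * w)⁻¹ = w * (w * c * w⁻¹) * w⁻¹ := by group
      rcases hfour _ h5 with h7 | h7 | h7 | h7
      · exfalso
        apply hc1
        have := congrArg (fun t => w⁻¹ * t * w) h7
        simpa [mul_assoc] using this
      · exfalso
        apply hcb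
        rw [← hwb] at h7
        have := congrArg (fun t => w⁻¹ * t * w) h7
        simpa [mul_assoc] using this
      · rw [h6, h7, h7]
      · rw [h6, h7]
        have h8 : w * (b * c) * w⁻¹ = (w * b * w⁻¹) * (w * c * w⁻¹) := by group
        rw [h8, hwb, h7, ← mul_assoc, hbb, one_mul]
    have hwb2 : (w * w) * b * (w * w)⁻¹ = b := by
      have h6 : (w * w) * b * (w * w)⁻¹ = w * (w * b * w⁻¹) * w⁻¹ := by group
      rw [h6, hwb, hwb]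
    rw [mem_CC]
    intro k hk
    have hkey : Q₁ ⊓ Q₂ ≤ Cn (w * w) := by
      have hcomm : ∀ e : G, (w * w) * e * (w * w)⁻¹ = e → e ∈ Cn (w * w) := by
        intro e he
        rw [mem_Cn]
        have h9 := congrArg (fun t => t * (w * w)) he
        simp only [mul_assoc, inv_mul_cancel, mul_one] at h9 ⊢
        exact h9.symm
      intro e he
      rcases hfour e he with rfl | rfl | rfl | rfl
      · exact one_mem _
      · exact hcomm _ hwb2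
      · exact hcomm _ hwc
      · exact mul_mem (hcomm _ hwb2) (hcomm _ hwc)
    exact (mem_Cn.1 (hkey hk)).symm

/-- a subgroup of `Q₁` centralised by an element of `N(Q₁) - Q₁` lies in a conjugate of `X` -/
theorem le_cj_X [Finite G] (hq : QPair Q₁ Q₂ 16 4) (hN : Nat.card ↥(Nm Q₁) = 960)
    (htr : ∀ x ∈ Q₁, ∀ y ∈ Q₁, x ≠ 1 → y ≠ 1 → ∃ a ∈ Nm Q₁, a * x * a⁻¹ = y) {t : G} (ht : t ∈ Nm Q₁) (htQ : t ∉ Q₁)
    {U : Subgroup G} (hU : U ≤ Q₁) (hU1 : ∃ x ∈ U, x ≠ 1) (hc : t ∈ CC U) : ∃ a ∈ Nm Q₁, U ≤ cj a (Q₁ ⊓ Q₂) := by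
  obtain ⟨x, hx, hx1⟩ := hU1
  obtain ⟨b, hb, hb1⟩ := exists_X hq
  obtain ⟨a, ha, hab⟩ := htr b hb.1 x (hU hx) hb1 hx1
  have h1 : Nm Q₁ ⊓ Cn b = Q₁ ⊔ Q₂ := by
    symm
    apply eq_of_le_of_card
    · refine le_inf (T_le_nm₁ hq) ?_
      intro y hy
      exact mem_Cn.2 (hq.comm_inf hb hy).symm
    · have h2 := card_cent_q hq.ea₁ htr hb.1 hb1
      rw [card_T hq]
      omega
  have h2 : Nm Q₁ ⊓ Cn x = cj a (Q₁ ⊔ Q₂) := by
    rw [← h1, cj_inf, cj_Cn, hab, cj_of_mem ha]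
  have h3 : t ∈ cj a (Q₁ ⊔ Q₂) := by
    rw [← h2]
    exact ⟨ht, mem_Cn.2 (mem_CC.1 hc x hx)⟩
  rw [mem_cj] at h3
  have h4 : a⁻¹ * t * a ∉ Q₁ := by
    intro h5
    apply htQ
    have h6 := le_Nm.1 le_rfl a ha _ h5
    simpa [mul_assoc] using h6
  refine ⟨a, ha, ?_⟩
  intro y hy
  rw [mem_cj]
  have h5 : a⁻¹ * y * a ∈ Q₁ := by
    have := le_Nm.1 le_rfl a⁻¹ (inv_mem ha) _ (hU hy)
    rwa [inv_inv] at this
  refine ⟨h5, ?_⟩
  by_contra h6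
  apply h4
  refine hq.cent_left h3 h5 h6 ?_
  have h7 := mem_CC.1 hc y hy
  have h8 := congrArg (fun s => a⁻¹ * s * a) h7
  simp only [mul_assoc, mul_inv_cancel_left] at h8 ⊢
  exact h8.symm

/-- `U ≤ Q₁` of order 4 with a large 2-subgroup in its centralizer is conjugate to `X` in `N(Q₁)` -/
theorem exists_cj_X [Finite G] (hq : QPair Q₁ Q₂ 16 4) (hN : Nat.card ↥(Nm Q₁) = 960)
    (htr : ∀ x ∈ Q₁, ∀ y ∈ Q₁, x ≠ 1 → y ≠ 1 → ∃ a ∈ Nm Q₁, a * x * a⁻¹ = y)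
    {U R : Subgroup G} (hU : U ≤ Q₁) (hU4 : Nat.card U = 4) (hR : IsPGroup 2 R) (hRU : R ≤ CC U) (hR16 : 16 < Nat.card R) :
    ∃ a ∈ Nm Q₁, cj a U = Q₁ ⊓ Q₂ := by
  have h1 : ¬ CC U ⊓ Nm Q₁ ≤ Q₁ := by
    intro h2
    have hQ : IsPGroup 2 Q₁ := IsPGroup.of_card (n := 4) (by rw [hq.ea₁.card]; norm_num)
    obtain ⟨c, -, hc⟩ := exists_cj_le_of_max (p := 2) (C := CC U) (A := R) (B := Q₁) hRU (by
      intro q hqq
      exact mem_CC.2 fun k hk => hq.ea₁.comm q hqq k (hU hk)) hR hQ (by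
      intro S hS hSp hQS
      have h3 := eq_of_selfnorm hQS hSp ((inf_le_inf_right _ hS).trans h2)
      rw [← h3])
    have h4 := card_le_of_le hc
    rw [card_cj, hq.ea₁.card] at h4
    omega
  obtain ⟨t, ht, htQ⟩ := SetLike.not_le_iff_exists.1 h1
  have hU1 : ∃ x ∈ U, x ≠ 1 := by
    by_contra hcon
    push Not at hcon
    have h2 : U = ⊥ := by
      rw [eq_bot_iff]
      intro y hy
      exact Subgroup.mem_bot.2 (hcon y hy)
    rw [h2, Subgroup.card_bot] at hU4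
    omega
  obtain ⟨a, ha, haU⟩ := le_cj_X hq hN htr ht.2 htQ hU hU1 ht.1
  have h2 : U = cj a (Q₁ ⊓ Q₂) := eq_of_le_of_card haU (by rw [card_cj, hq.inf, hU4])
  refine ⟨a⁻¹, inv_mem ha, ?_⟩
  rw [h2, cj_inv_cj]

theorem e960i [Finite G] {Q₁ Q₂ : Subgroup G} {τ u : G} (h : TypeOne Q₁ Q₂ τ u) (P : Sylow 2 G)
    (hP : (P : Subgroup G) = Q₁ ⊔ Q₂ ⊔ Subgroup.zpowers u)
    (hN : Nat.card ↥(Nm Q₁) = 960) (hD : Nm Q₁ ⊓ Nm Q₂ = Q₁ ⊔ Q₂ ⊔ Subgroup.zpowers τ)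
    (htr : ∀ x ∈ Q₁, ∀ y ∈ Q₁, x ≠ 1 → y ≠ 1 → ∃ a ∈ Nm Q₁, a * x * a⁻¹ = y) :
    ∃ H : Subgroup G, H.index = 2 := by
  by_contra hcon
  push Not at hcon
  have hq := h.six.pair
  have huT := u_not_mem h
  have huNT : u ∈ Nm (Q₁ ⊔ Q₂) := nm_T_of_swap h.swap h.swap'
  have hcT : Nat.card ↥(Q₁ ⊔ Q₂) = 64 := card_T hq
  have hTP : Q₁ ⊔ Q₂ ≤ (P : Subgroup G) := by rw [hP]; exact le_sup_left
  have hidx : (Q₁ ⊔ Q₂).relIndex (P : Subgroup G) = 2 := by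
    rw [hP]
    exact relIndex_sup_inv h.u2 huNT huT
  have hcP : Nat.card (P : Subgroup G) = 128 := by
    have h1 := card_mul_relIndex hTP
    rw [hidx, hcT] at h1
    omega
  have huP : u ∈ (P : Subgroup G) := by
    rw [hP]
    exact Subgroup.mem_sup_right (Subgroup.mem_zpowers u)
  have hune : u ≠ 1 := by
    rintro rfl
    exact huT (one_mem _)
  have hev : Even (Nat.card G) := by
    have h1 := Subgroup.card_subgroup_dvd_card (Q₁ ⊔ Q₂)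
    rw [hcT] at h1
    exact even_iff_two_dvd.2 (Dvd.dvd.trans (by norm_num) h1)
  obtain ⟨g, hg⟩ := Cfsg.Agent.S3225.result hev hcon P _ hTP hidx 1 le_rfl (by
    intro y _ hy2
    have h1 : orderOf y ≠ 1 := by
      intro h2
      rw [orderOf_eq_one_iff] at h2
      exact hy2 (h2 ▸ one_mem _)
    have h3 : 0 < orderOf y := orderOf_pos y
    simp only [le_refl, tsub_eq_zero_of_le, pow_zero]
    omega) u huP (by
    rw [pow_one]
    apply orderOf_eq_prime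
    · rw [pow_two, h.u2]
    · exact hune)
  have hgu2 : (g * u * g⁻¹) * (g * u * g⁻¹) = 1 := by
    calc (g * u * g⁻¹) * (g * u * g⁻¹) = g * (u * u) * g⁻¹ := by group
      _ = 1 := by rw [h.u2]; group
  have hgu1 : g * u * g⁻¹ ≠ 1 := by
    intro h4
    apply hune
    have := congrArg (fun t => g⁻¹ * t * g) h4
    simpa [mul_assoc] using this
  obtain ⟨z, hz, hz1⟩ := exists_X hq
  -- `u` is conjugate to `z`
  obtain ⟨x₀, hx₀⟩ : ∃ x₀ : G, x₀ * u * x₀⁻¹ = z := by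
    rcases hq.inv hg hgu2 with h1 | h1
    · obtain ⟨a, -, ha⟩ := htr _ h1 z hz.1 hgu1 hz1
      refine ⟨a * g, ?_⟩
      rw [← ha]
      group
    · have h3 : u * (g * u * g⁻¹) * u⁻¹ ∈ Q₁ := by
        rw [← h.swap', conj_mem_cj]
        exact h1
      obtain ⟨a, -, ha⟩ := htr _ h3 z hz.1 (by
        intro h4
        apply hgu1
        have := congrArg (fun t => u⁻¹ * t * u) h4
        simpa [mul_assoc] using this) hz1
      refine ⟨a * u * g, ?_⟩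
      rw [← ha]
      group
  have hzP : z ∈ (P : Subgroup G) := hTP (Subgroup.mem_sup_left hz.1)
  have hPz : (P : Subgroup G) ⊓ Cn z = (P : Subgroup G) := by
    apply le_antisymm inf_le_left
    refine le_inf le_rfl ?_
    intro p hp
    rw [hP] at hp
    exact mem_Cn.2 (X_central h hz hp).symm
  obtain ⟨y, hy, hyE⟩ := exists_conj_cent_le P hzP hx₀ (by
    intro g _
    rw [hPz]
    exact card_le_of_le inf_le_left) (A := (P : Subgroup G) ⊓ Cn u) (P.isPGroup'.to_le inf_le_left) inf_le_right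
  rw [hPz] at hyE
  have hE8 : Nat.card ↥((P : Subgroup G) ⊓ Cn u) = 8 := by rw [hP]; exact card_E h
  by_cases hyT : cj y ((P : Subgroup G) ⊓ Cn u) ≤ Q₁ ⊔ Q₂
  · -- Case B
    obtain ⟨x, hxu, hxE⟩ : ∃ x, x * u * x⁻¹ = z ∧ cj x ((P : Subgroup G) ⊓ Cn u) ≤ Q₁ := by
      rcases hq.elab hyT (by
        intro e he
        rw [mem_cj] at he
        have h1 : (y⁻¹ * e * y) * (y⁻¹ * e * y) = 1 := by
          rw [hP] at he
          exact E_sq h he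
        have h2 := congrArg (fun t => y * t * y⁻¹) h1
        simpa [mul_assoc] using h2) with h1 | h1
      · exact ⟨y, hy, h1⟩
      · refine ⟨u * y, ?_, ?_⟩
        · calc u * y * u * (u * y)⁻¹ = u * (y * u * y⁻¹) * u⁻¹ := by group
            _ = z := by rw [hy, h.X z hz]; group
        · rw [cj_mul, ← h.swap', cj_le_cj]
          exact h1
    have hXE : Q₁ ⊓ Q₂ ≤ (P : Subgroup G) ⊓ Cn u := by rw [hP]; exact X_le_E h
    obtain ⟨a, ha, haX⟩ := exists_cj_X hq hN htr (U := cj x (Q₁ ⊓ Q₂)) (R := cj x (P : Subgroup G))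
      ((cj_le_cj.2 hXE).trans hxE) (by rw [card_cj, hq.inf]) (isPGroup_cj x P.isPGroup') (by
        rw [← cj_CC, cj_le_cj, hP]
        exact P_le_CC h) (by rw [card_cj, hcP]; norm_num)
    rw [← cj_mul] at haX
    obtain ⟨b, hb, hbX⟩ := NX h P hP (mem_Nm.2 haX)
    have hbQ : b ∈ Nm Q₁ := Subgroup.zpowers_le.2 h.six.n₁ hb
    refine caseB_aux h P hP (by rw [hP]; exact NT_CC h hD) hbX ?_
    have h1 : b * (a * x) * u * (b * (a * x))⁻¹ = (b * a) * z * (b * a)⁻¹ := by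
      rw [← hxu]
      group
    rw [h1]
    exact le_Nm.1 le_rfl (b * a) (mul_mem hbQ ha) z hz.1
  · -- Case A
    obtain ⟨e, he, heT⟩ := SetLike.not_le_iff_exists.1 hyT
    have heP : e ∈ Q₁ ⊔ Q₂ ⊔ Subgroup.zpowers u := hP ▸ hyE he
    have heu : e * u ∈ Q₁ ⊔ Q₂ := ((mem_P h).1 heP).resolve_left heT
    have h1 : e * u * u = e := by rw [mul_assoc, h.u2, mul_one]
    have hee : e * e = 1 := by
      rw [mem_cj] at he
      have h1 : (y⁻¹ * e * y) * (y⁻¹ * e * y) = 1 := by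
        rw [hP] at he
        exact E_sq h he
      have h2 := congrArg (fun t => y * t * y⁻¹) h1
      simpa [mul_assoc] using h2
    obtain ⟨t, ht, hte⟩ := h.conj _ heu (by rw [h1, hee])
    rw [h1] at hte
    have htP : t ∈ (P : Subgroup G) := hTP ht
    have huE : u ∈ cj (t⁻¹ * y) ((P : Subgroup G) ⊓ Cn u) := by
      rw [cj_mul, mem_cj, inv_inv, hte]
      exact he
    have h2 : cj (t⁻¹ * y) ((P : Subgroup G) ⊓ Cn u) ≤ (P : Subgroup G) ⊓ Cn u := by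
      refine le_inf ?_ ?_
      · rw [cj_mul]
        exact (cj_le_cj.2 hyE).trans (cj_of_mem (inv_mem htP)).le
      · intro k hk
        rw [mem_Cn]
        rw [mem_cj] at hk huE
        rw [hP] at hk huE
        have h3 := E_comm h hk huE
        have h4 := congrArg (fun s => (t⁻¹ * y) * s * (t⁻¹ * y)⁻¹) h3
        have e1 : (t⁻¹ * y) * ((t⁻¹ * y)⁻¹ * k * (t⁻¹ * y) * ((t⁻¹ * y)⁻¹ * u * (t⁻¹ * y))) * (t⁻¹ * y)⁻¹ = k * u := by group
        have e2 : (t⁻¹ * y) * ((t⁻¹ * y)⁻¹ * u * (t⁻¹ * y) * ((t⁻¹ * y)⁻¹ * k * (t⁻¹ * y))) * (t⁻¹ * y)⁻¹ = u * k := by group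
        rw [e1, e2] at h4
        exact h4
    have h3 : cj (t⁻¹ * y) ((P : Subgroup G) ⊓ Cn u) = (P : Subgroup G) ⊓ Cn u :=
      eq_of_le_of_card h2 (by rw [card_cj])
    refine caseA h P hP (x := t⁻¹ * y) ?_ h3
    have h4 : t⁻¹ * y * u * (t⁻¹ * y)⁻¹ = t⁻¹ * (y * u * y⁻¹) * t := by group
    rw [h4, hy]
    have h5 := hq.comm_inf hz ht
    rw [mul_assoc, h5, inv_mul_cancel_left]
    exact hz

end Cfsg.Agent.H595.Five
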