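import Cfsg.Agent.H595.Five.Frame
import Cfsg.Agent.H595.Five.SylowNorm

/-!
# Case 1920 of S3568
-/

set_option autoImplicit false
open Pointwise
namespace Cfsg.Agent.H595.Five
open Cfsg.Agent.H399 Cfsg.Agent.H209.Five
variable {G : Type*} [Group G] {Q₁ Q₂ : Subgroup G}

theorem ea_cj {Q : Subgroup G} {n : ℕ} (h : EA Q n) (x : G) : Nat.card ↥(cj x Q) = n ∧ ∀ y ∈ cj x Q, y * y = 1 := by
  refine ⟨by rw [card_cj, h.card], ?_⟩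
  intro y hy
  rw [mem_cj] at hy
  have h1 := h.sq _ hy
  have h2 := congrArg (fun t => x * t * x⁻¹) h1
  simpa [mul_assoc] using h2

/-- case 1920, assuming the conclusion of step A (`stepA1920`) -/
theorem e1920_of [Finite G]
    (stepA : ∀ {τ s u v z : G}, TypeOne Q₁ Q₂ τ u → TypeTwo Q₁ Q₂ τ v z → TypeThree Q₁ Q₂ τ s z → s * u = u * s →
      v = s * u → ∀ P : Sylow 2 G, (P : Subgroup G) = Q₁ ⊔ Q₂ ⊔ Subgroup.zpowers s ⊔ Subgroup.zpowers u →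
      Nm Q₁ ⊓ Nm Q₂ = Q₁ ⊔ Q₂ ⊔ Subgroup.zpowers τ ⊔ Subgroup.zpowers s → ∀ x : G, x * v * x⁻¹ ≠ z)
    (hq : QPair Q₁ Q₂ 16 4) (g : G) (hg₁ : cj g Q₁ = Q₂) (hg₂ : cj g Q₂ = Q₁)
    (hN : Nat.card ↥(Nm Q₁) = 1920) (hD : Nat.card ↥(Nm Q₁ ⊓ Nm Q₂) = 384)
    (hna : ∃ a ∈ Nm Q₁ ⊓ Nm Q₂, ∃ b ∈ Nm Q₁ ⊓ Nm Q₂, a * b * a⁻¹ * b⁻¹ ∉ Q₁ ⊔ Q₂)
    (htr : ∀ x ∈ Q₁, ∀ y ∈ Q₁, x ≠ 1 → y ≠ 1 → ∃ a ∈ Nm Q₁, a * x * a⁻¹ = y) :
    ∃ H : Subgroup G, H.index = 2 := by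
  obtain ⟨τ, s, u, z, h₁, h₂, h₃, hsu, hDeq⟩ := frame1920 hq g hg₁ hg₂ hN hD hna htr
  have hs1 := s_not_mem h₃
  have hu1 := swap_not_mem hq h₁.swap
  have hv1 := swap_not_mem hq h₂.swap
  have hsT : s ∈ Nm (Q₁ ⊔ Q₂) := nm_T_of_nm h₃.n₁ h₃.n₂
  have huT : u ∈ Nm (Q₁ ⊔ Q₂) := nm_T_of_swap h₁.swap h₁.swap'
  have hus : cj u (Subgroup.zpowers s) = Subgroup.zpowers s := by
    rw [cj_eq_map, MonoidHom.map_zpowers]
    congr 1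
    change u * s * u⁻¹ = s
    rw [← hsu]
    group
  have huM : u ∈ Nm (Q₁ ⊔ Q₂ ⊔ Subgroup.zpowers s) := by
    rw [mem_Nm, cj_sup, mem_Nm.1 huT, hus]
  have huM' : u ∉ Q₁ ⊔ Q₂ ⊔ Subgroup.zpowers s := by
    rw [mem_sup_inv h₃.s2 hsT]
    rintro (h | h)
    · exact hu1 h
    · rw [← hsu] at h
      exact hv1 h
  have hcT := card_T hq
  have hcM : Nat.card ↥(Q₁ ⊔ Q₂ ⊔ Subgroup.zpowers s) = 128 := by
    have h1 := card_mul_relIndex (le_sup_left : Q₁ ⊔ Q₂ ≤ Q₁ ⊔ Q₂ ⊔ Subgroup.zpowers s)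
    rw [relIndex_sup_inv h₃.s2 hsT hs1, hcT] at h1
    omega
  have hcP : Nat.card ↥(Q₁ ⊔ Q₂ ⊔ Subgroup.zpowers s ⊔ Subgroup.zpowers u) = 256 := by
    have h1 := card_mul_relIndex
      (le_sup_left : Q₁ ⊔ Q₂ ⊔ Subgroup.zpowers s ≤ Q₁ ⊔ Q₂ ⊔ Subgroup.zpowers s ⊔ Subgroup.zpowers u)
    rw [relIndex_sup_inv h₁.u2 huM huM', hcM] at h1
    omega
  have hcN := card_NT hq hg₁ hg₂
  rw [hD] at hcN
  obtain ⟨P, hP⟩ := exists_sylow_of_norm (p := 2) (P₀ := Q₁ ⊔ Q₂ ⊔ Subgroup.zpowers s ⊔ Subgroup.zpowers u)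
    (N := Nm (Q₁ ⊔ Q₂)) (IsPGroup.of_card (n := 8) (by rw [hcP]; norm_num)) (by
      intro n hn
      have h4 : ∀ Q : Subgroup G, EA Q 16 → Q ≤ Q₁ ⊔ Q₂ ⊔ Subgroup.zpowers s ⊔ Subgroup.zpowers u →
          cj n Q = Q₁ ∨ cj n Q = Q₂ := by
        intro Q hQ hQP
        refine J1920 h₁ h₂ h₃ hsu rfl ?_ (ea_cj hQ n).1 (ea_cj hQ n).2
        rw [← mem_Nm.1 hn, cj_le_cj]
        exact hQP
      have h5 := h4 Q₁ hq.ea₁ (le_sup_left.trans (le_sup_left.trans le_sup_left))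
      have h6 := h4 Q₂ hq.ea₂ (le_sup_right.trans (le_sup_left.trans le_sup_left))
      have hne := qne hq
      rw [mem_Nm, cj_sup]
      rcases h5 with h5 | h5 <;> rcases h6 with h6 | h6
      · exact absurd (cj_inj.1 (h5.trans h6.symm)) hne
      · rw [h5, h6]
      · rw [h5, h6, sup_comm]
      · exact absurd (cj_inj.1 (h5.trans h6.symm)) hne) (by
      intro S hS hSp _
      obtain ⟨k, hk⟩ := IsPGroup.iff_card.1 hSp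
      have h1 := Subgroup.card_dvd_of_le hS
      rw [hcN, hk] at h1
      rw [hk, hcP]
      have h2 : k ≤ 8 := by
        by_contra h3
        have h4 : 2 ^ 9 ∣ 2 * 384 := (pow_dvd_pow 2 (by omega)).trans h1
        norm_num at h4
      calc 2 ^ k ≤ 2 ^ 8 := Nat.pow_le_pow_right (by norm_num) h2
        _ = 256 := by norm_num)
  exact e1920core h₁ h₂ h₃ hsu rfl P hP (stepA h₁ h₂ h₃ hsu rfl P hP hDeq) htr

end Cfsg.Agent.H595.Five
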