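import Cfsg.Agent.H595.Five.NineTools

/-!
# Case 960, type (i): case A
-/

set_option autoImplicit false
open Pointwise
namespace Cfsg.Agent.H595.Five
open Cfsg.Agent.H399 Cfsg.Agent.H209.Five
variable {G : Type*} [Group G] {Q₁ Q₂ : Subgroup G} {τ u : G}

/-- abbreviation for the centralizer of a subgroup -/
abbrev CC (K : Subgroup G) : Subgroup G := Subgroup.centralizer (K : Set G)

theorem mem_CC {K : Subgroup G} {x : G} : x ∈ CC K ↔ ∀ k ∈ K, x * k = k * x := by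
  rw [Subgroup.mem_centralizer_iff]
  exact ⟨fun h k hk => (h k hk).symm, fun h k hk => (h k hk).symm⟩

theorem cj_CC (g : G) (K : Subgroup G) : cj g (CC K) = CC (cj g K) := by
  have key : ∀ (g : G) (K : Subgroup G), cj g (CC K) ≤ CC (cj g K) := by
    intro g K y hy
    rw [mem_CC]
    intro k hk
    rw [mem_cj] at hy hk
    have h1 := mem_CC.1 hy _ hk
    have h2 := congrArg (fun t => g * t * g⁻¹) h1
    simpa [mul_assoc] using h2
  refine le_antisymm (key g K) ?_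
  have := key g⁻¹ (cj g K)
  rw [cj_inv_cj, cj_le_iff, inv_inv] at this
  exact this

theorem mem_P (h : TypeOne Q₁ Q₂ τ u) {x : G} :
    x ∈ Q₁ ⊔ Q₂ ⊔ Subgroup.zpowers u ↔ x ∈ Q₁ ⊔ Q₂ ∨ x * u ∈ Q₁ ⊔ Q₂ :=
  mem_sup_inv h.u2 (nm_T_of_swap h.swap h.swap')

theorem u_not_mem [Finite G] (h : TypeOne Q₁ Q₂ τ u) : u ∉ Q₁ ⊔ Q₂ := swap_not_mem h.six.pair h.swap

theorem X_central [Finite G] (h : TypeOne Q₁ Q₂ τ u) {x p : G} (hx : x ∈ Q₁ ⊓ Q₂)
    (hp : p ∈ Q₁ ⊔ Q₂ ⊔ Subgroup.zpowers u) : x * p = p * x := by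
  rcases (mem_P h).1 hp with h1 | h1
  · exact h.six.pair.comm_inf hx h1
  · have h2 := h.six.pair.comm_inf hx h1
    have h3 : x * u = u * x := (h.X x hx).symm
    have h4 : x * p * u = p * x * u := by
      calc x * p * u = x * (p * u) := by group
        _ = p * (u * x) := by rw [h2]; group
        _ = p * x * u := by rw [← h3]; group
    exact mul_right_cancel h4

theorem E_dec [Finite G] (h : TypeOne Q₁ Q₂ τ u) {x : G} (hx : x ∈ (Q₁ ⊔ Q₂ ⊔ Subgroup.zpowers u) ⊓ Cn u) :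
    x ∈ Q₁ ⊓ Q₂ ∨ x * u ∈ Q₁ ⊓ Q₂ := by
  have h1 := mem_Cn.1 hx.2
  rcases (mem_P h).1 hx.1 with h2 | h2
  · exact Or.inl (h.cent x h2 h1.symm)
  · right
    apply h.cent _ h2
    rw [← mul_assoc, ← h1]

theorem X_le_E [Finite G] (h : TypeOne Q₁ Q₂ τ u) : Q₁ ⊓ Q₂ ≤ (Q₁ ⊔ Q₂ ⊔ Subgroup.zpowers u) ⊓ Cn u :=
  fun x hx => ⟨Subgroup.mem_sup_left (Subgroup.mem_sup_left hx.1), mem_Cn.2 (h.X x hx).symm⟩

theorem u_mem_E : u ∈ (Q₁ ⊔ Q₂ ⊔ Subgroup.zpowers u) ⊓ Cn u :=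
  ⟨Subgroup.mem_sup_right (Subgroup.mem_zpowers u), mem_Cn.2 rfl⟩

theorem E_eq [Finite G] (h : TypeOne Q₁ Q₂ τ u) :
    (Q₁ ⊔ Q₂ ⊔ Subgroup.zpowers u) ⊓ Cn u = Q₁ ⊓ Q₂ ⊔ Subgroup.zpowers u := by
  apply le_antisymm
  · intro x hx
    rcases E_dec h hx with h1 | h1
    · exact Subgroup.mem_sup_left h1
    · have h2 : x = x * u * u := by rw [mul_assoc, h.u2, mul_one]
      rw [h2]
      exact mul_mem (Subgroup.mem_sup_left h1) (Subgroup.mem_sup_right (Subgroup.mem_zpowers u))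
  · exact sup_le (X_le_E h) (Subgroup.zpowers_le.2 u_mem_E)

theorem card_E [Finite G] (h : TypeOne Q₁ Q₂ τ u) :
    Nat.card ↥((Q₁ ⊔ Q₂ ⊔ Subgroup.zpowers u) ⊓ Cn u) = 8 := by
  rw [E_eq h]
  have h1 := card_mul_relIndex (le_sup_left : Q₁ ⊓ Q₂ ≤ Q₁ ⊓ Q₂ ⊔ Subgroup.zpowers u)
  have h2 : u ∈ Nm (Q₁ ⊓ Q₂) := by
    rw [mem_Nm, cj_inf, h.swap, h.swap', inf_comm]
  have h3 : u ∉ Q₁ ⊓ Q₂ := fun h4 => u_not_mem h (Subgroup.mem_sup_left h4.1)
  rw [relIndex_sup_inv h.u2 h2 h3, h.six.pair.inf] at h1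
  omega

theorem E_comm [Finite G] (h : TypeOne Q₁ Q₂ τ u) {x y : G} (hx : x ∈ (Q₁ ⊔ Q₂ ⊔ Subgroup.zpowers u) ⊓ Cn u)
    (hy : y ∈ (Q₁ ⊔ Q₂ ⊔ Subgroup.zpowers u) ⊓ Cn u) : x * y = y * x := by
  rcases E_dec h hx with h1 | h1
  · exact X_central h h1 hy.1
  · have h2 := X_central h h1 hy.1
    have h3 := mem_Cn.1 hy.2
    have h4 : x * y * u = y * x * u := by
      calc x * y * u = x * (y * u) := by group
        _ = x * u * y := by rw [h3]; group
        _ = y * x * u := by rw [h2]; group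
    exact mul_right_cancel h4

theorem E_sq [Finite G] (h : TypeOne Q₁ Q₂ τ u) {x : G} (hx : x ∈ (Q₁ ⊔ Q₂ ⊔ Subgroup.zpowers u) ⊓ Cn u) :
    x * x = 1 := by
  rcases E_dec h hx with h1 | h1
  · exact h.six.pair.ea₁.sq x h1.1
  · have h2 := h.six.pair.ea₁.sq _ h1.1
    have h3 := mem_Cn.1 hx.2
    calc x * x = x * (u * u) * x := by rw [h.u2, mul_one]
      _ = (x * u) * (u * x) := by group
      _ = 1 := by rw [← h3, h2]

theorem X_comm_u [Finite G] (h : TypeOne Q₁ Q₂ τ u) {a : G} (ha : a ∈ Q₁ ⊓ Q₂) :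
    ∃ y ∈ Q₁ ⊔ Q₂, y * u * y⁻¹ = a * u := by
  apply h.conj a (Subgroup.mem_sup_left ha.1)
  have h1 := h.X a ha
  have h2 := h.six.pair.ea₁.sq a ha.1
  calc a * u * (a * u) = a * (u * a) * u := by group
    _ = (a * a) * (u * u) := by rw [h1]; group
    _ = 1 := by rw [h2, h.u2, one_mul]

/-- elements `y` of `T` with `yuy⁻¹ ∈ Xu` normalise `E` -/
theorem nm_E [Finite G] (h : TypeOne Q₁ Q₂ τ u) {a y : G} (ha : a ∈ Q₁ ⊓ Q₂) (hy : y ∈ Q₁ ⊔ Q₂)
    (hyu : y * u * y⁻¹ = a * u) : y ∈ Nm ((Q₁ ⊔ Q₂ ⊔ Subgroup.zpowers u) ⊓ Cn u) := by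
  rw [mem_Nm, cj_inf, cj_Cn, hyu, cj_of_mem (Subgroup.mem_sup_left hy : y ∈ Q₁ ⊔ Q₂ ⊔ Subgroup.zpowers u)]
  ext p
  rw [Subgroup.mem_inf, Subgroup.mem_inf, mem_Cn, mem_Cn]
  refine and_congr_right fun hp => ?_
  have h1 := X_central h ha hp
  rw [← mul_assoc, ← h1, mul_assoc, mul_assoc]
  exact mul_right_inj a

/-- the automiser of `K` in `P` has order at least 8 -/
def Big (P K : Subgroup G) : Prop := 8 * Nat.card ↥(CC K ⊓ (P ⊓ Nm K)) ≤ Nat.card ↥(P ⊓ Nm K)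

theorem Big.cj {P K : Subgroup G} (h : Big P K) {p : G} (hp : p ∈ P) : Big P (cj p K) := by
  have h1 : Cfsg.Agent.H399.cj p (P ⊓ Nm K) = P ⊓ Nm (Cfsg.Agent.H399.cj p K) := by
    rw [cj_inf, cj_Nm, cj_of_mem hp]
  have h2 : Cfsg.Agent.H399.cj p (CC K ⊓ (P ⊓ Nm K)) = CC (Cfsg.Agent.H399.cj p K) ⊓ (P ⊓ Nm (Cfsg.Agent.H399.cj p K)) := by
    rw [cj_inf, h1, cj_CC]
  unfold Big
  rw [← h2, ← h1, card_cj, card_cj]
  exact h

theorem not_Big_E [Finite G] (h : TypeOne Q₁ Q₂ τ u) {P : Subgroup G} (hP : P = Q₁ ⊔ Q₂ ⊔ Subgroup.zpowers u) :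
    ¬ Big P (P ⊓ Cn u) := by
  intro hB
  unfold Big at hB
  have hE8 : Nat.card ↥(P ⊓ Cn u) = 8 := by rw [hP]; exact card_E h
  have h1 : P ⊓ Cn u ≤ CC (P ⊓ Cn u) ⊓ (P ⊓ Nm (P ⊓ Cn u)) := by
    refine le_inf ?_ (le_inf inf_le_left (self_le_Nm _))
    intro x hx
    rw [mem_CC]
    intro k hk
    rw [hP] at hx hk
    exact E_comm h hx hk
  have h2 := card_le_of_le h1
  have h3 := card_orbit (P ⊓ Nm (P ⊓ Cn u)) u
  have h4 : Nat.card ↥(P ⊓ Nm (P ⊓ Cn u) ⊓ Cn u) ≤ 8 := by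
    rw [← hE8]
    exact card_le_of_le (le_inf (inf_le_left.trans inf_le_left) inf_le_right)
  have h5 : {y : G | ∃ a ∈ P ⊓ Nm (P ⊓ Cn u), a * u * a⁻¹ = y} ⊆ (fun a => a * u) '' ((Q₁ ⊓ Q₂ : Subgroup G) : Set G) := by
    rintro _ ⟨a, ha, rfl⟩
    have h6 : a * u * a⁻¹ ∈ (Q₁ ⊔ Q₂ ⊔ Subgroup.zpowers u) ⊓ Cn u := by
      rw [← hP]
      refine le_Nm.1 le_rfl a ha.2 u ?_
      rw [hP]
      exact u_mem_E
    have hnT : Q₁ ⊔ Q₂ ⊔ Subgroup.zpowers u ≤ Nm (Q₁ ⊔ Q₂) :=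
      sup_le (self_le_Nm _) (Subgroup.zpowers_le.2 (nm_T_of_swap h.swap h.swap'))
    rcases E_dec h h6 with h7 | h7
    · exfalso
      apply u_not_mem h
      have haP : a ∈ Q₁ ⊔ Q₂ ⊔ Subgroup.zpowers u := hP ▸ ha.1
      have h8 : a * u * a⁻¹ ∈ Q₁ ⊔ Q₂ := Subgroup.mem_sup_left h7.1
      have h9 := le_Nm.1 le_rfl a⁻¹ (inv_mem (hnT haP)) _ h8
      simpa [mul_assoc] using h9
    · refine ⟨a * u * a⁻¹ * u, h7, ?_⟩
      simp only
      rw [mul_assoc, h.u2, mul_one]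
  have h6 := Set.ncard_le_ncard h5 (Set.toFinite _)
  rw [Set.ncard_image_of_injective _ (mul_left_injective u)] at h6
  have h7 : ((Q₁ ⊓ Q₂ : Subgroup G) : Set G).ncard = 4 := h.six.pair.inf
  rw [h7] at h6
  have h8 := Nat.mul_le_mul h6 h4
  rw [h3] at h8
  omega

theorem not_Big_Q [Finite G] (h : TypeOne Q₁ Q₂ τ u) {P : Subgroup G} (hP : P = Q₁ ⊔ Q₂ ⊔ Subgroup.zpowers u)
    {K Q Q' : Subgroup G} (hQ : EA Q 16) (hQP : Q ≤ P) (hQQ : cj u Q = Q') (hX : Nat.card ↥(Q ⊓ Q') = 4)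
    (hK : K ≤ Q) (hK8 : Nat.card K = 8) : ¬ Big P K := by
  intro hB
  unfold Big at hB
  have hcP : Nat.card P = 128 := by
    have h1 := card_mul_relIndex (le_sup_left : Q₁ ⊔ Q₂ ≤ Q₁ ⊔ Q₂ ⊔ Subgroup.zpowers u)
    rw [relIndex_sup_inv h.u2 (nm_T_of_swap h.swap h.swap') (u_not_mem h), card_T h.six.pair, ← hP] at h1
    omega
  have h1 : Q ≤ CC K ⊓ (P ⊓ Nm K) := by
    refine le_inf ?_ (le_inf hQP ?_)
    · intro x hx
      rw [mem_CC]
      intro k hk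
      exact hQ.comm x hx k (hK hk)
    · rw [le_Nm]
      intro x hx k hk
      have h2 : x * k * x⁻¹ = k := by
        rw [hQ.comm x hx k (hK hk)]
        group
      rw [h2]
      exact hk
  have h2 := card_le_of_le h1
  rw [hQ.card] at h2
  have h3 : P ⊓ Nm K = P := eq_of_le_of_card inf_le_left (by omega)
  have hu : u ∈ Nm K := by
    have h4 : u ∈ P ⊓ Nm K := by
      rw [h3, hP]
      exact Subgroup.mem_sup_right (Subgroup.mem_zpowers u)
    exact h4.2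
  have h4 : K ≤ Q ⊓ Q' := by
    refine le_inf hK ?_
    rw [← mem_Nm.1 hu, ← hQQ, cj_le_cj]
    exact hK
  have h5 := card_le_of_le h4
  omega

theorem not_Big [Finite G] (h : TypeOne Q₁ Q₂ τ u) {P : Subgroup G} (hP : P = Q₁ ⊔ Q₂ ⊔ Subgroup.zpowers u)
    {K : Subgroup G} (hK : EA K 8) (hKP : K ≤ P) : ¬ Big P K := by
  by_cases hKT : K ≤ Q₁ ⊔ Q₂
  · have hT : Q₁ ⊔ Q₂ ≤ P := by rw [hP]; exact le_sup_left
    rcases h.six.pair.elab hKT hK.sq with h1 | h1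
    · exact not_Big_Q h hP h.six.pair.ea₁ (le_sup_left.trans hT) h.swap h.six.pair.inf h1 hK.card
    · exact not_Big_Q h hP h.six.pair.ea₂ (le_sup_right.trans hT) h.swap' (by rw [inf_comm]; exact h.six.pair.inf) h1
        hK.card
  · intro hB
    obtain ⟨e, he, heT⟩ := SetLike.not_le_iff_exists.1 hKT
    have heP : e ∈ Q₁ ⊔ Q₂ ⊔ Subgroup.zpowers u := hP ▸ hKP he
    have heu : e * u ∈ Q₁ ⊔ Q₂ := ((mem_P h).1 heP).resolve_left heT
    have h1 : e * u * u = e := by rw [mul_assoc, h.u2, mul_one]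
    obtain ⟨y, hy, hyu⟩ := h.conj _ heu (by rw [h1, hK.sq e he])
    rw [h1] at hyu
    have hyP : y ∈ P := by
      rw [hP]
      exact Subgroup.mem_sup_left hy
    have huK : u ∈ cj y⁻¹ K := by
      rw [mem_cj, inv_inv, hyu]
      exact he
    have h2 : cj y⁻¹ K ≤ P ⊓ Cn u := by
      refine le_inf ?_ ?_
      · rw [← cj_of_mem (inv_mem hyP), cj_le_cj]
        exact hKP
      · intro k hk
        rw [mem_Cn]
        rw [mem_cj] at hk huK
        have h3 := hK.comm _ hk _ huK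
        rw [inv_inv] at h3
        have h4 := congrArg (fun t => y⁻¹ * t * y) h3
        simpa [mul_assoc] using h4
    have h3 : cj y⁻¹ K = P ⊓ Cn u := by
      apply eq_of_le_of_card h2
      rw [card_cj, hK.card, hP, card_E h]
    have h4 := hB.cj (inv_mem hyP)
    rw [h3] at h4
    exact not_Big_E h hP h4

/-- from a subgroup `B` of `N(E)` with `|B| = 8 |C(E)|` we get a conjugate of `E` in `P` which is big -/
theorem exists_big [Finite G] (P : Sylow 2 G) {E B : Subgroup G} (hEp : IsPGroup 2 E) (hEB : E ≤ B) (hBE : B ≤ Nm E)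
    (hc : Nat.card B = 8 * Nat.card ↥(CC E)) : ∃ y : G, cj y E ≤ P ∧ Big P (cj y E) := by
  have hE' : IsPGroup 2 (E.subgroupOf B) := hEp.comap_of_injective _ B.subtype_injective
  obtain ⟨S₀, hS₀⟩ := hE'.exists_le_sylow
  set S : Subgroup G := (S₀ : Subgroup B).map B.subtype with hS
  have hSp : IsPGroup 2 S := S₀.isPGroup'.map _
  have hSB : S ≤ B := Subgroup.map_subtype_le _
  have hES : E ≤ S := by
    intro e he
    exact ⟨⟨e, hEB he⟩, hS₀ (by rw [Subgroup.mem_subgroupOf]; exact he), rfl⟩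
  have hcS : Nat.card S = Nat.card S₀ :=
    (Nat.card_congr ((S₀ : Subgroup B).equivMapOfInjective _ B.subtype_injective).toEquiv).symm
  have h1 : 8 * Nat.card ↥(CC E ⊓ S) ≤ Nat.card S := by
    have hp : IsPGroup 2 ↥(CC E ⊓ S) := hSp.to_le inf_le_right
    obtain ⟨k, hk⟩ := IsPGroup.iff_card.1 hp
    have h2 : Nat.card ↥(CC E ⊓ S) ∣ Nat.card ↥(CC E) := Subgroup.card_dvd_of_le inf_le_left
    rw [hk] at h2
    have h3 : 2 ^ (k + 3) ∣ Nat.card B := by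
      rw [hc, pow_add, mul_comm]
      exact Nat.mul_dvd_mul_left 8 h2
    have h4 := S₀.pow_dvd_card_of_pow_dvd_card h3
    rw [hcS, hk]
    have h5 := Nat.le_of_dvd Nat.card_pos h4
    rw [pow_add] at h5
    change 8 * 2 ^ k ≤ Nat.card ↥(S₀ : Subgroup B)
    calc 8 * 2 ^ k = 2 ^ k * 2 ^ 3 := by ring
      _ ≤ _ := h5
  obtain ⟨y, hy⟩ := exists_cj_le P hSp
  refine ⟨y, le_trans (cj_le_cj.2 hES) hy, ?_⟩
  unfold Big
  have h2 : cj y S ≤ (P : Subgroup G) ⊓ Nm (cj y E) := by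
    refine le_inf hy ?_
    rw [← cj_Nm, cj_le_cj]
    exact hSB.trans hBE
  have h3 : 8 ≤ (CC E).relIndex S := by
    have h4 := card_inf_mul_relIndex S (CC E)
    rw [← h4] at h1
    have h5 : 0 < Nat.card ↥(CC E ⊓ S) := Nat.card_pos
    rw [mul_comm] at h1
    exact Nat.le_of_mul_le_mul_left h1 h5
  have h4 : 8 ≤ (CC (cj y E)).relIndex (cj y S) := by
    rw [← cj_CC, relIndex_cj]
    exact h3
  have h5 : 8 ≤ (CC (cj y E)).relIndex ((P : Subgroup G) ⊓ Nm (cj y E)) :=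
    h4.trans (Subgroup.relIndex_le_of_le_right h2 (Subgroup.index_ne_zero_of_finite))
  have h6 := card_inf_mul_relIndex ((P : Subgroup G) ⊓ Nm (cj y E)) (CC (cj y E))
  rw [← h6, mul_comm]
  exact Nat.mul_le_mul_left _ h5

theorem caseA [Finite G] (h : TypeOne Q₁ Q₂ τ u) (P : Sylow 2 G)
    (hP : (P : Subgroup G) = Q₁ ⊔ Q₂ ⊔ Subgroup.zpowers u) {x : G} (hxu : x * u * x⁻¹ ∈ Q₁ ⊓ Q₂)
    (hxE : cj x ((P : Subgroup G) ⊓ Cn u) = (P : Subgroup G) ⊓ Cn u) : False := by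
  have hq := h.six.pair
  rw [hP] at hxE
  set E := (Q₁ ⊔ Q₂ ⊔ Subgroup.zpowers u) ⊓ Cn u with hE
  set X := Q₁ ⊓ Q₂ with hX
  have hXE : X ≤ E := X_le_E h
  have hE8 : Nat.card E = 8 := card_E h
  have hX4 : Nat.card X = 4 := hq.inf
  have huT := u_not_mem h
  have huX : u ∉ X := fun h4 => huT (Subgroup.mem_sup_left h4.1)
  have hEEA : EA E 8 := ⟨hE8, fun a ha b hb => E_comm h ha hb, fun a ha => E_sq h ha⟩
  have hxE' : x ∈ Nm E := mem_Nm.2 hxE
  have hX''E : cj x⁻¹ X ≤ E := by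
    rw [← cj_of_mem_Nm (inv_mem hxE'), cj_le_cj]
    exact hXE
  have huX'' : u ∈ cj x⁻¹ X := by
    rw [mem_cj, inv_inv]
    exact hxu
  have hmemX'' : ∀ e, e ∈ cj x⁻¹ X ↔ x * e * x⁻¹ ∈ X := by
    intro e
    rw [mem_cj, inv_inv]
  -- `x₂ ∈ X \ X''`
  obtain ⟨x₂, hx₂, hx₂'⟩ : ∃ x₂ ∈ X, x₂ ∉ cj x⁻¹ X := by
    by_contra hcon
    push Not at hcon
    have h1 : X ≤ cj x⁻¹ X := hcon
    have h2 := eq_of_le_of_card h1 (by rw [card_cj])
    apply huX
    rw [h2]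
    exact huX''
  -- `w ∈ X ∩ X''`
  obtain ⟨w, hwX, hwX'', hw1⟩ : ∃ w ∈ X, w ∈ cj x⁻¹ X ∧ w ≠ 1 := by
    by_contra hcon
    push Not at hcon
    have h1 : X ⊓ cj x⁻¹ X = ⊥ := by
      rw [eq_bot_iff]
      intro y hy
      rw [Subgroup.mem_bot]
      exact hcon y hy.1 hy.2
    have h2 : X ≤ Nm (cj x⁻¹ X) := by
      rw [le_Nm]
      intro a ha b hb
      have h3 : a * b * a⁻¹ = b := by
        rw [hEEA.comm a (hXE ha) b (hX''E hb)]
        group
      rw [h3]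
      exact hb
    have h3 := card_sup h2
    rw [h1, Subgroup.card_bot, card_cj, hX4] at h3
    have h4 := card_le_of_le (sup_le hXE hX''E)
    omega
  have hx21 : x₂ ≠ 1 := by
    rintro rfl
    exact hx₂' (one_mem _)
  have hx2w : x₂ ≠ w := by
    rintro rfl
    exact hx₂' hwX''
  have hww : w * w = 1 := hEEA.sq w (hXE hwX)
  have hx22 : x₂ * x₂ = 1 := hEEA.sq x₂ (hXE hx₂)
  have hwx : w * x₂ = x₂ * w := hEEA.comm w (hXE hwX) x₂ (hXE hx₂)
  have hXset : ∀ a ∈ X, a = 1 ∨ a = w ∨ a = x₂ ∨ a = w * x₂ := by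
    have h1 : ({1, w, x₂, w * x₂} : Set G) ⊆ (X : Set G) := by
      rintro a (rfl | rfl | rfl | rfl)
      · exact one_mem _
      · exact hwX
      · exact hx₂
      · exact mul_mem hwX hx₂
    have h2 : ({1, w, x₂, w * x₂} : Set G).ncard = 4 := by
      rw [Set.ncard_insert_of_notMem, Set.ncard_insert_of_notMem, Set.ncard_pair]
      · intro h3
        exact hw1 (mul_eq_right.1 h3.symm)
      · rintro (h3 | h3)
        · exact hx2w h3.symm
        · exact hx21 (mul_eq_left.1 (Set.mem_singleton_iff.1 h3).symm)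
      · rintro (h3 | h3 | h3)
        · exact hw1 h3.symm
        · exact hx21 h3.symm
        · have h4 : w * (w * x₂) = w := by
            rw [← Set.mem_singleton_iff.1 h3, mul_one]
          rw [← mul_assoc, hww, one_mul] at h4
          exact hx2w h4
    have h3 : ({1, w, x₂, w * x₂} : Set G) = (X : Set G) := by
      apply Set.eq_of_subset_of_ncard_le h1
      rw [h2]
      exact hX4.le
    intro a ha
    have h4 : a ∈ ({1, w, x₂, w * x₂} : Set G) := by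
      rw [h3]
      exact ha
    exact h4
  -- the transvections with axis `X`
  have hy : ∀ a ∈ X, ∃ y ∈ Q₁ ⊔ Q₂, y * u * y⁻¹ = a * u ∧ y ∈ Nm E := by
    intro a ha
    obtain ⟨y, hy, hyu⟩ := X_comm_u h ha
    exact ⟨y, hy, hyu, nm_E h ha hy hyu⟩
  set B : Subgroup G := Nm E ⊓ Nm X ⊓ Cn w with hB
  have hyB : ∀ y ∈ Q₁ ⊔ Q₂, y ∈ Nm E → y ∈ B := by
    intro y hyT hyE
    refine ⟨⟨hyE, ?_⟩, mem_Cn.2 (hq.comm_inf hwX hyT).symm⟩
    exact le_Nm.2 (fun a ha b hb => by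
      have h3 : a * b * a⁻¹ = b := by
        rw [← hq.comm_inf hb ha]
        group
      rw [h3]
      exact hb) hyT
  -- `s`
  obtain ⟨s, hsE, hs'', hs2⟩ : ∃ s ∈ Nm E, (∀ e ∈ cj x⁻¹ X, s * e = e * s) ∧ s * x₂ * s⁻¹ = w * x₂ := by
    have hw' : x * w * x⁻¹ ∈ X := (hmemX'' w).1 hwX''
    obtain ⟨y, hyT, hyu, hyE⟩ := hy _ hw'
    refine ⟨x⁻¹ * y * x, mul_mem (mul_mem (inv_mem hxE') hyE) hxE', ?_, ?_⟩
    · intro e he
      have h1 := (hmemX'' e).1 he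
      have h2 := hq.comm_inf h1 hyT
      have h3 := congrArg (fun t => x⁻¹ * t * x) h2
      simp only [mul_assoc, inv_mul_cancel_left, inv_mul_cancel, mul_one] at h3 ⊢
      exact h3.symm
    · have h1 : x * x₂ * x⁻¹ ∈ E := le_Nm.1 le_rfl x hxE' _ (hXE hx₂)
      have h2 : x * x₂ * x⁻¹ ∉ X := fun h3 => hx₂' ((hmemX'' x₂).2 h3)
      have h3 : x * x₂ * x⁻¹ * u ∈ X := (E_dec h h1).resolve_left h2
      have h4 : x * x₂ * x⁻¹ = (x * x₂ * x⁻¹ * u) * u := by rw [mul_assoc _ u u, h.u2, mul_one]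
      have h5 : y * (x * x₂ * x⁻¹) * y⁻¹ = (x * w * x⁻¹) * (x * x₂ * x⁻¹) := by
        generalize x * x₂ * x⁻¹ = k at h3 h4
        have h6 := hq.comm_inf h3 hyT
        rw [h4]
        generalize k * u = a at h3 h6
        calc y * (a * u) * y⁻¹ = (a * y) * u * y⁻¹ := by rw [h6]; group
          _ = a * (x * w * x⁻¹) * u := by
              rw [mul_assoc a y, mul_assoc a, hyu]; group
          _ = (x * w * x⁻¹) * a * u := by rw [hq.ea₁.comm a h3.1 _ hw'.1]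
          _ = _ := by group
      calc x⁻¹ * y * x * x₂ * (x⁻¹ * y * x)⁻¹ = x⁻¹ * (y * (x * x₂ * x⁻¹) * y⁻¹) * x := by group
        _ = w * x₂ := by rw [h5]; group
  have hsw : s * w = w * s := hs'' w hwX''
  have hsu : s * u = u * s := hs'' u huX''
  have hsX : s ∈ Nm X := by
    rw [mem_Nm]
    apply eq_of_le_of_card
    · intro a ha
      rw [mem_cj] at ha
      have h1 : a = s * (s⁻¹ * a * s) * s⁻¹ := by group
      rw [h1]
      have h2 : s * w * s⁻¹ = w := by rw [hsw]; group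
      rcases hXset _ ha with h3 | h3 | h3 | h3
      · rw [h3]; simp
      · rw [h3, h2]; exact hwX
      · rw [h3, hs2]; exact mul_mem hwX hx₂
      · have h4 : s * (w * x₂) * s⁻¹ = (s * w * s⁻¹) * (s * x₂ * s⁻¹) := by group
        rw [h3, h4, h2, hs2]
        exact mul_mem hwX (mul_mem hwX hx₂)
    · rw [card_cj]
  have hsB : s ∈ B := ⟨⟨hsE, hsX⟩, mem_Cn.2 hsw⟩
  have hCE : ∀ c, c ∈ CC E ↔ c * u = u * c ∧ c * x₂ = x₂ * c ∧ c * w = w * c := by
    intro c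
    rw [mem_CC]
    constructor
    · intro hc
      exact ⟨hc u u_mem_E, hc x₂ (hXE hx₂), hc w (hXE hwX)⟩
    · rintro ⟨h1, h2, h3⟩ e he
      have h4 : X ≤ Cn c := by
        intro a ha
        rcases hXset a ha with rfl | rfl | rfl | rfl
        · exact one_mem _
        · exact mem_Cn.2 h3.symm
        · exact mem_Cn.2 h2.symm
        · exact mul_mem (mem_Cn.2 h3.symm) (mem_Cn.2 h2.symm)
      have h5 : E ≤ Cn c := by
        rw [hE, E_eq h]
        exact sup_le h4 (Subgroup.zpowers_le.2 (mem_Cn.2 h1.symm))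
      exact (mem_Cn.1 (h5 he)).symm
  have hCB : CC E ≤ B := by
    intro c hc
    have hc' := mem_CC.1 hc
    have key : ∀ K : Subgroup G, K ≤ E → c ∈ Nm K := by
      intro K hK
      rw [mem_Nm]
      ext a
      rw [mem_cj]
      constructor
      · intro ha
        have h1 := hc' _ (hK ha)
        have h2 : a = c⁻¹ * a * c := by
          have h3 := congrArg (fun t => t * c⁻¹) h1
          simp only [mul_assoc, mul_inv_cancel_left, mul_inv_cancel, mul_one] at h3 ⊢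
          exact h3
        rw [h2]
        exact ha
      · intro ha
        have h1 := hc' a (hK ha)
        have h2 : c⁻¹ * a * c = a := by
          rw [mul_assoc, ← h1]
          group
        rw [h2]
        exact ha
    exact ⟨⟨key E le_rfl, key X hXE⟩, mem_Cn.2 (hc' w (hXE hwX))⟩
  -- the orbits
  have ho1 : {y : G | ∃ a ∈ B, a * u * a⁻¹ = y} = (fun a => a * u) '' (X : Set G) := by
    ext y
    constructor
    · rintro ⟨a, ha, rfl⟩
      have h1 : a * u * a⁻¹ ∈ E := le_Nm.1 le_rfl a ha.1.1 u u_mem_E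
      rcases E_dec h h1 with h2 | h2
      · exfalso
        apply huX
        have h3 := le_Nm.1 le_rfl a⁻¹ (inv_mem ha.1.2) _ h2
        simpa [mul_assoc] using h3
      · refine ⟨_, h2, ?_⟩
        simp only
        rw [mul_assoc, h.u2, mul_one]
    · rintro ⟨a, ha, rfl⟩
      obtain ⟨y, hyT, hyu, hyE⟩ := hy a ha
      exact ⟨y, hyB y hyT hyE, hyu⟩
  have ho2 : {y : G | ∃ a ∈ B ⊓ Cn u, a * x₂ * a⁻¹ = y} = {x₂, w * x₂} := by
    ext y
    constructor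
    · rintro ⟨a, ha, rfl⟩
      have h1 : a * x₂ * a⁻¹ ∈ X := le_Nm.1 le_rfl a ha.1.1.2 _ hx₂
      rcases hXset _ h1 with h2 | h2 | h2 | h2
      · exfalso
        apply hx21
        have h3 := congrArg (fun t => a⁻¹ * t * a) h2
        simpa [mul_assoc] using h3
      · exfalso
        apply hx2w
        have h3 := mem_Cn.1 ha.1.2
        have h4 := congrArg (fun t => a⁻¹ * t * a) h2
        have h5 : a⁻¹ * w * a = w := by rw [mul_assoc, ← h3]; group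
        rw [h5] at h4
        simpa [mul_assoc] using h4
      · exact Or.inl h2
      · exact Or.inr h2
    · rintro (rfl | rfl)
      · exact ⟨1, one_mem _, by group⟩
      · exact ⟨s, ⟨hsB, mem_Cn.2 hsu⟩, hs2⟩
  have hc1 := card_orbit B u
  have hc2 := card_orbit (B ⊓ Cn u) x₂
  rw [ho1, Set.ncard_image_of_injective _ (mul_left_injective u)] at hc1
  have h3 : (X : Set G).ncard = 4 := hX4
  rw [ho2, Set.ncard_pair (fun h4 => hw1 (mul_eq_right.1 h4.symm))] at hc2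
  have hc3 : B ⊓ Cn u ⊓ Cn x₂ = CC E := by
    ext c
    rw [hCE]
    constructor
    · rintro ⟨⟨h4, h5⟩, h6⟩
      exact ⟨mem_Cn.1 h5, mem_Cn.1 h6, mem_Cn.1 h4.2⟩
    · rintro ⟨h4, h5, h6⟩
      exact ⟨⟨hCB ((hCE c).2 ⟨h4, h5, h6⟩), mem_Cn.2 h4⟩, mem_Cn.2 h5⟩
  rw [hc3] at hc2
  rw [h3, ← hc2] at hc1
  have hEp : IsPGroup 2 E := IsPGroup.of_card (n := 3) (by rw [hE8]; norm_num)
  have hEB : E ≤ B := by
    intro e he
    have h4 : e ∈ CC E := mem_CC.2 fun k hk => hEEA.comm e he k hk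
    exact hCB h4
  obtain ⟨y, hy1, hy2⟩ := exists_big P hEp hEB (inf_le_left.trans inf_le_left) (by rw [← hc1]; ring)
  refine not_Big h hP ?_ hy1 hy2
  refine ⟨by rw [card_cj, hE8], ?_, ?_⟩
  · intro a ha b hb
    rw [mem_cj] at ha hb
    have h4 := hEEA.comm _ ha _ hb
    have h5 := congrArg (fun t => y * t * y⁻¹) h4
    simpa [mul_assoc] using h5
  · intro a ha
    rw [mem_cj] at ha
    have h4 := hEEA.sq _ ha
    have h5 := congrArg (fun t => y * t * y⁻¹) h4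
    simpa [mul_assoc] using h5

end Cfsg.Agent.H595.Five
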