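import Cfsg.Agent.H595.Five.NineA
import Cfsg.Agent.H352.LemmaW

/-!
# Case 960, type (i): passing to the quotient of the centralizer of `X` by `X`
-/

set_option autoImplicit false
open Pointwise
namespace Cfsg.Agent.H595.Five
open Cfsg.Agent.H399 Cfsg.Agent.H209.Five
variable {G : Type*} [Group G]

section Quot

variable {H X : Subgroup G} [(X.subgroupOf H).Normal]

/-- image of `A ∩ H` in `H/X` -/
def bar (H X A : Subgroup G) [(X.subgroupOf H).Normal] : Subgroup (↥H ⧸ X.subgroupOf H) :=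
  (A.subgroupOf H).map (QuotientGroup.mk' (X.subgroupOf H))

theorem mk_mem_bar {A : Subgroup G} (hXA : X ≤ A) {a : H} :
    (QuotientGroup.mk a : ↥H ⧸ X.subgroupOf H) ∈ bar H X A ↔ (a : G) ∈ A := by
  constructor
  · rintro ⟨b, hb, hab⟩
    rw [QuotientGroup.mk'_apply, QuotientGroup.eq, Subgroup.mem_subgroupOf] at hab
    have h1 : (a : G) = b * ((b⁻¹ * a : H) : G) := by
      push_cast
      group
    rw [h1]
    exact mul_mem hb (hXA hab)
  · intro ha
    exact ⟨a, ha, rfl⟩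

theorem cj_bar {A : Subgroup G} (hXA : X ≤ A) (g : H) (hgX : (g : G) ∈ Nm X) :
    cj (QuotientGroup.mk g : ↥H ⧸ X.subgroupOf H) (bar H X A) = bar H X (cj (g : G) A) := by
  have hX' : X ≤ cj (g : G) A := by
    rw [← mem_Nm.1 hgX, cj_le_cj]
    exact hXA
  ext y
  obtain ⟨a, rfl⟩ := QuotientGroup.mk_surjective y
  rw [mk_mem_bar hX', mem_cj, mem_cj]
  exact mk_mem_bar (a := g⁻¹ * a * g) hXA

theorem bar_mono {A B : Subgroup G} (h : A ≤ B) : bar H X A ≤ bar H X B :=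
  Subgroup.map_mono (Subgroup.comap_mono h)

theorem le_of_bar_le {A B : Subgroup G} (hXB : X ≤ B) (hA : A ≤ H) (h : bar H X A ≤ bar H X B) : A ≤ B := by
  intro a ha
  have h1 : (QuotientGroup.mk (⟨a, hA ha⟩ : H) : ↥H ⧸ X.subgroupOf H) ∈ bar H X A := ⟨⟨a, hA ha⟩, ha, rfl⟩
  exact (mk_mem_bar hXB).1 (h h1)

end Quot

variable {Q₁ Q₂ : Subgroup G} {τ u : G}

theorem P_le_CC [Finite G] (h : TypeOne Q₁ Q₂ τ u) : Q₁ ⊔ Q₂ ⊔ Subgroup.zpowers u ≤ CC (Q₁ ⊓ Q₂) := by
  intro p hp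
  rw [mem_CC]
  intro k hk
  exact (X_central h hk hp).symm

theorem caseB_aux [Finite G] (h : TypeOne Q₁ Q₂ τ u) (P : Sylow 2 G)
    (hP : (P : Subgroup G) = Q₁ ⊔ Q₂ ⊔ Subgroup.zpowers u)
    (hNT : Nm (Q₁ ⊔ Q₂) ⊓ CC (Q₁ ⊓ Q₂) ≤ (P : Subgroup G)) {x : G} (hx : x ∈ CC (Q₁ ⊓ Q₂))
    (hxu : x * u * x⁻¹ ∈ Q₁) : False := by
  have hq := h.six.pair
  have huT := u_not_mem h
  set X := Q₁ ⊓ Q₂ with hX
  set T := Q₁ ⊔ Q₂ with hT
  set H := CC X with hH
  have hPH : (P : Subgroup G) ≤ H := by rw [hP]; exact P_le_CC h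
  have hTP : T ≤ (P : Subgroup G) := by rw [hP]; exact le_sup_left
  have hTH : T ≤ H := hTP.trans hPH
  have hXT : X ≤ T := inf_le_left.trans le_sup_left
  have hXP : X ≤ (P : Subgroup G) := hXT.trans hTP
  have huP : u ∈ (P : Subgroup G) := by
    rw [hP]
    exact Subgroup.mem_sup_right (Subgroup.mem_zpowers u)
  have huH : u ∈ H := hPH huP
  have hHX : ∀ g ∈ H, g ∈ Nm X := by
    intro g hg
    rw [mem_Nm]
    ext a
    rw [mem_cj]
    have hg' := mem_CC.1 hg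
    constructor
    · intro ha
      have h1 := hg' _ ha
      have h2 : a = g⁻¹ * a * g := by
        have h3 := congrArg (fun t => t * g⁻¹) h1
        simp only [mul_assoc, mul_inv_cancel_left, mul_inv_cancel, mul_one] at h3 ⊢
        exact h3
      rw [h2]
      exact ha
    · intro ha
      have h1 := hg' a ha
      have h2 : g⁻¹ * a * g = a := by
        rw [mul_assoc, ← h1]
        group
      rw [h2]
      exact ha
  have : (X.subgroupOf H).Normal := by
    rw [Subgroup.normal_subgroupOf_iff_le_normalizer (hXP.trans hPH)]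
    intro g hg
    exact hHX g hg
  have hcH : ∀ a ∈ H, cj a T ≤ H := fun a ha => (cj_le_cj.2 hTH).trans (cj_of_mem ha).le
  have hPu : ∀ p ∈ (P : Subgroup G), p ∈ T ∨ p * u ∈ T := by
    intro p hp
    rw [hP] at hp
    exact (mem_P h).1 hp
  -- the Sylow subgroup of the quotient
  let PB : Sylow 2 (↥H ⧸ X.subgroupOf H) := (P.subtype hPH).mapSurjective
    (f := QuotientGroup.mk' (X.subgroupOf H)) (QuotientGroup.mk'_surjective _)
  have hPB : (PB : Subgroup (↥H ⧸ X.subgroupOf H)) = bar H X P := rfl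
  set TB := bar H X T with hTB
  have hTBc : ∀ a ∈ TB, ∀ b ∈ TB, a * b = b * a := by
    rintro _ ⟨a, ha, rfl⟩ _ ⟨b, hb, rfl⟩
    rw [QuotientGroup.mk'_apply, QuotientGroup.mk'_apply, ← QuotientGroup.mk_mul, ← QuotientGroup.mk_mul,
      QuotientGroup.eq, Subgroup.mem_subgroupOf]
    have h1 := hq.comm_mem (inv_mem hb) (inv_mem ha)
    have h2 : (((a * b)⁻¹ * (b * a) : H) : G) = (b : G)⁻¹ * (a : G)⁻¹ * (b : G)⁻¹⁻¹ * (a : G)⁻¹⁻¹ := by
      push_cast
      group
    rw [h2]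
    exact h1
  have hTBs : ∀ a ∈ TB, a * a = 1 := by
    rintro _ ⟨a, ha, rfl⟩
    rw [QuotientGroup.mk'_apply, ← QuotientGroup.mk_mul, QuotientGroup.eq_one_iff, Subgroup.mem_subgroupOf]
    exact hq.sq_mem ha
  set uB : ↥H ⧸ X.subgroupOf H := QuotientGroup.mk (⟨u, huH⟩ : H) with huB
  have huBP : uB ∈ PB := (mk_mem_bar (A := (P : Subgroup G)) hXP (a := ⟨u, huH⟩)).2 huP
  have huBT : uB ∉ TB := fun h1 => huT ((mk_mem_bar hXT (a := ⟨u, huH⟩)).1 h1)
  have huB2 : uB * uB = 1 := by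
    rw [huB, ← QuotientGroup.mk_mul, QuotientGroup.eq_one_iff, Subgroup.mem_subgroupOf]
    have h1 : (((⟨u, huH⟩ * ⟨u, huH⟩ : H)) : G) = 1 := h.u2
    rw [h1]
    exact one_mem _
  have hPBdec : ∀ p ∈ PB, p ∈ TB ∨ p * uB ∈ TB := by
    intro p hp
    obtain ⟨a, rfl⟩ := QuotientGroup.mk_surjective p
    have h1 : (a : G) ∈ (P : Subgroup G) := (mk_mem_bar (A := (P : Subgroup G)) hXP).1 hp
    rcases hPu _ h1 with h2 | h2
    · exact Or.inl ((mk_mem_bar hXT).2 h2)
    · exact Or.inr ((mk_mem_bar hXT (a := a * ⟨u, huH⟩)).2 h2)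
  have hwc : ∀ g : ↥H ⧸ X.subgroupOf H, cj g TB ≤ PB → cj g TB = TB := by
    intro g hg
    obtain ⟨a, rfl⟩ := QuotientGroup.mk_surjective g
    rw [hTB, cj_bar hXT a (hHX a a.2)] at hg ⊢
    have hXc : X ≤ cj (a : G) T := by
      rw [← mem_Nm.1 (hHX a a.2), cj_le_cj]
      exact hXT
    have h1 : cj (a : G) T ≤ (P : Subgroup G) := by
      exact le_of_bar_le hXP (hcH a a.2) hg
    have h2 : ∀ Q : Subgroup G, EA Q 16 → Q ≤ T → cj (a : G) Q = Q₁ ∨ cj (a : G) Q = Q₂ := by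
      intro Q hQ hQT
      refine h.J ?_ (by rw [card_cj, hQ.card]) ?_
      · rw [← hT, ← hP]
        exact le_trans (cj_le_cj.2 hQT) h1
      · intro y hy
        rw [mem_cj] at hy
        have h3 := hQ.sq _ hy
        have h4 := congrArg (fun t => (a : G) * t * (a : G)⁻¹) h3
        simpa [mul_assoc] using h4
    have h3 : cj (a : G) T = T := by
      have hne := qne hq
      rw [hT, cj_sup]
      rcases h2 Q₁ hq.ea₁ le_sup_left with h5 | h5 <;> rcases h2 Q₂ hq.ea₂ le_sup_right with h6 | h6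
      · exact absurd (cj_inj.1 (h5.trans h6.symm)) hne
      · rw [h5, h6]
      · rw [h5, h6, sup_comm]
      · exact absurd (cj_inj.1 (h5.trans h6.symm)) hne
    rw [h3]
  have hN : Nm TB ≤ PB := by
    intro g hg
    obtain ⟨a, rfl⟩ := QuotientGroup.mk_surjective g
    rw [mem_Nm, hTB, cj_bar hXT a (hHX a a.2)] at hg
    have hXc : X ≤ cj (a : G) T := by
      rw [← mem_Nm.1 (hHX a a.2), cj_le_cj]
      exact hXT
    have h1 : cj (a : G) T ≤ T := by
      exact le_of_bar_le hXT (hcH a a.2) hg.le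
    have h2 : cj (a : G) T = T := eq_of_le_of_card h1 (by rw [card_cj])
    apply (mk_mem_bar (A := (P : Subgroup G)) hXP).2
    exact hNT ⟨mem_Nm.2 h2, a.2⟩
  -- the element `x`
  set xB : ↥H ⧸ X.subgroupOf H := QuotientGroup.mk (⟨x, hx⟩ : H) with hxB
  set u' := xB * uB * xB⁻¹ with hu'
  have hu'T : u' ∈ TB :=
    (mk_mem_bar hXT (a := ⟨x, hx⟩ * ⟨u, huH⟩ * ⟨x, hx⟩⁻¹)).2 (Subgroup.mem_sup_left hxu)
  have hu'u : uB * u' ≠ u' * uB := by
    intro h1
    have h2 : (u * (x * u * x⁻¹))⁻¹ * (x * u * x⁻¹ * u) ∈ X := by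
      have h3 : (QuotientGroup.mk (⟨u, huH⟩ * (⟨x, hx⟩ * ⟨u, huH⟩ * ⟨x, hx⟩⁻¹) : H) : ↥H ⧸ X.subgroupOf H) =
          QuotientGroup.mk (⟨x, hx⟩ * ⟨u, huH⟩ * ⟨x, hx⟩⁻¹ * ⟨u, huH⟩ : H) := h1
      rw [QuotientGroup.eq, Subgroup.mem_subgroupOf] at h3
      exact h3
    have hu' : u⁻¹ = u := inv_eq_of_mul_eq_one_left h.u2
    have h3 : u * (x * u * x⁻¹) * u⁻¹ ∈ Q₂ := by
      rw [← h.swap, conj_mem_cj]
      exact hxu
    have h4 : x * u * x⁻¹ ∈ Q₂ := by
      have h5 : (u * (x * u * x⁻¹))⁻¹ * (x * u * x⁻¹ * u) = (x * u * x⁻¹)⁻¹ * (u * (x * u * x⁻¹) * u⁻¹) := by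
        rw [mul_inv_rev, hu']
        group
      rw [h5] at h2
      have h6 := (Subgroup.mul_mem_cancel_right Q₂ h3).1 h2.2
      exact inv_mem_iff.1 h6
    have h5 : x * u * x⁻¹ ∈ X := ⟨hxu, h4⟩
    have h6 := mem_CC.1 hx _ h5
    apply huT
    apply hXT
    have h7 : u = x * u * x⁻¹ := by
      have h8 := congrArg (fun t => x⁻¹ * t * x⁻¹ * x) h6
      simp only [mul_assoc, inv_mul_cancel_left, inv_mul_cancel, mul_one] at h8 ⊢
      have h9 : x * (x * (u * x⁻¹)) = x * u := by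
        have := congrArg (fun t => x * t) h8
        simpa using this
      have h10 := congrArg (fun t => x⁻¹ * t) h9
      simp only [inv_mul_cancel_left] at h10
      exact h10.symm
    rw [h7]
    exact h5
  -- conjugation inside the centralizer of `u'`
  set Δ : Subgroup (↥H ⧸ X.subgroupOf H) := TB ⊓ Cn uB with hΔ
  have hTBp : IsPGroup 2 TB := by
    have h1 : IsPGroup 2 (PB : Subgroup (↥H ⧸ X.subgroupOf H)) := PB.isPGroup'
    exact h1.to_le (bar_mono hTP)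
  have hΔp : IsPGroup 2 Δ := hTBp.to_le inf_le_left
  obtain ⟨c, hc, hc2⟩ := exists_cj_le_of_max (p := 2) (C := Cn u') (A := cj xB Δ) (B := TB)
    (by
      rw [hu', ← cj_Cn, cj_le_cj]
      exact inf_le_right)
    (by
      intro t ht
      exact mem_Cn.2 (hTBc t ht _ hu'T)) (isPGroup_cj _ hΔp) hTBp (by
      intro S hS hSp hTS
      have h1 : TB = S := by
        refine eq_of_selfnorm hTS hSp ?_
        rintro y ⟨hyS, hyN⟩
        have h2 := mem_Cn.1 (hS hyS)
        rcases hPBdec y (hN hyN) with h3 | h3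
        · exact h3
        · exfalso
          apply hu'u
          have h4 := hTBc _ h3 _ hu'T
          have h5 : y * (uB * u') = y * (u' * uB) := by
            calc y * (uB * u') = y * uB * u' := by group
              _ = u' * (y * uB) := h4
              _ = y * (u' * uB) := by rw [← mul_assoc, ← h2, mul_assoc]
          exact mul_left_cancel h5
      rw [← h1])
  refine H352.Five.lemmaW PB TB Δ uB (bar_mono hTP) hTBc hTBs huBP huBT huB2 hPBdec ?_ hwc (inf_le_left.trans hN)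
    (c * xB) ?_ ?_
  · intro y
    rw [hΔ, Subgroup.mem_inf, mem_Cn]
    exact and_congr_right fun _ => eq_comm
  · have h1 := mem_Cn.1 hc
    have h2 : c * xB * uB * (c * xB)⁻¹ = c * u' * c⁻¹ := by rw [hu']; group
    rw [h2, h1]
    have h3 : u' * c * c⁻¹ = u' := by group
    rw [h3]
    exact hu'T
  · rw [cj_mul]
    exact hc2

end Cfsg.Agent.H595.Five
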