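import Cfsg.Agent.H595.Five.Core
import Cfsg.Agent.H595.Five.Orbit
import Cfsg.Agent.H595.Five.SylowNorm
import Cfsg.Agent.H595.Five.Frame

/-!
# Tools for case 960, type (i)
-/

set_option autoImplicit false
open Pointwise
namespace Cfsg.Agent.H595.Five
open Cfsg.Agent.H399 Cfsg.Agent.H209.Five
variable {G : Type*} [Group G]

/-- a self-normalising subgroup of a `p`-group is everything -/
theorem eq_of_selfnorm {p : ℕ} [Fact p.Prime] [Finite G] {B S : Subgroup G} (hBS : B ≤ S) (hS : IsPGroup p S)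
    (h : S ⊓ Nm B ≤ B) : B = S := by
  by_contra hne
  have h1 : B.subgroupOf S < ⊤ := by
    rw [lt_top_iff_ne_top]
    intro h2
    rw [Subgroup.subgroupOf_eq_top] at h2
    exact hne (le_antisymm hBS h2)
  have : Group.IsNilpotent ↥S := hS.isNilpotent
  have h2 := Group.normalizerCondition_of_isNilpotent (G := ↥S) _ h1
  obtain ⟨x, hx, hx2⟩ := SetLike.exists_of_lt h2
  have h3 : (x : G) ∈ Nm B := by
    rw [Subgroup.mem_normalizer_iff] at hx ⊢
    intro y
    constructor
    · intro hy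
      exact (hx ⟨y, hBS hy⟩).1 hy
    · intro hy
      have hyR : y ∈ S := by
        have := mul_mem (mul_mem (inv_mem x.2) (hBS hy)) x.2
        simpa [mul_assoc] using this
      exact (hx ⟨y, hyR⟩).2 hy
  exact hx2 (h ⟨x.2, h3⟩)

theorem mem_sup_two {T : Subgroup G} {s : G} (hs : s * s ∈ T) (hn : s ∈ Nm T) {x : G} :
    x ∈ T ⊔ Subgroup.zpowers s ↔ x ∈ T ∨ x * s ∈ T := by
  have hz : Subgroup.zpowers s ≤ Nm T := by
    rw [Subgroup.zpowers_le]
    exact hn
  have hconj : ∀ t ∈ T, s * t * s⁻¹ ∈ T := fun t ht => le_Nm.1 hz s (Subgroup.mem_zpowers s) t ht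
  have hconj' : ∀ t ∈ T, s⁻¹ * t * s ∈ T := fun t ht => by
    have := le_Nm.1 hz s⁻¹ (inv_mem (Subgroup.mem_zpowers s)) t ht
    rwa [inv_inv] at this
  rw [sup_comm, mul_mem_sup_iff hz]
  constructor
  · rintro ⟨y, hy, t, ht, rfl⟩
    obtain ⟨k, rfl⟩ := Subgroup.mem_zpowers_iff.1 hy
    rcases Int.even_or_odd' k with ⟨m, rfl | rfl⟩
    · left
      rw [zpow_mul, zpow_two]
      exact mul_mem (zpow_mem hs m) ht
    · right
      rw [zpow_add, zpow_mul, zpow_two, zpow_one]
      have h1 : (s * s) ^ m * s * t * s = (s * s) ^ m * (s * t * s⁻¹) * (s * s) := by group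
      rw [h1]
      exact mul_mem (mul_mem (zpow_mem hs m) (hconj t ht)) hs
  · rintro (h | h)
    · exact ⟨1, one_mem _, x, h, one_mul x⟩
    · refine ⟨s, Subgroup.mem_zpowers s, s⁻¹ * (x * s) * s * (s * s)⁻¹, mul_mem (hconj' _ h) (inv_mem hs), ?_⟩
      group

theorem relIndex_sup_two {M : Subgroup G} {u : G} (hu2 : u * u ∈ M) (hn : u ∈ Nm M) (hu : u ∉ M) :
    M.relIndex (M ⊔ Subgroup.zpowers u) = 2 := by
  rw [Subgroup.relIndex_eq_two_iff]
  refine ⟨u, Subgroup.mem_sup_right (Subgroup.mem_zpowers u), ?_⟩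
  intro b hb
  rcases (mem_sup_two hu2 hn).1 hb with h | h
  · right
    refine ⟨h, ?_⟩
    intro h2
    exact hu ((Subgroup.mul_mem_cancel_left M h).1 h2)
  · left
    refine ⟨h, ?_⟩
    intro h2
    exact hu ((Subgroup.mul_mem_cancel_left M h2).1 h)

/-- an element normalising an overgroup `C` of a Sylow 2-subgroup with square in `C` lies in `C` -/
theorem mem_of_sq_mem [Finite G] (P : Sylow 2 G) {C : Subgroup G} (hPC : (P : Subgroup G) ≤ C) {y : G} (hy : y ∈ Nm C)
    (hyy : y * y ∈ C) : y ∈ C := by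
  by_contra hyC
  have h1 := card_mul_relIndex (le_sup_left : C ≤ C ⊔ Subgroup.zpowers y)
  rw [relIndex_sup_two hyy hy hyC] at h1
  have h2 := Subgroup.card_subgroup_dvd_card (C ⊔ Subgroup.zpowers y)
  rw [← h1] at h2
  have h3 := Subgroup.card_dvd_of_le hPC
  have h4 : Nat.card P * 2 ∣ Nat.card G := (Nat.mul_dvd_mul_right h3 2).trans h2
  have h5 := (P : Subgroup G).card_mul_index
  rw [← h5] at h4
  have h6 : 2 ∣ (P : Subgroup G).index := Nat.dvd_of_mul_dvd_mul_left Nat.card_pos h4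
  exact P.not_dvd_index h6

end Cfsg.Agent.H595.Five
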